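import Groth.Agent.H17.PrinStalk
import Groth.Agent.H29Omega.ConormalStalk
import Groth.Agent.H29Blow.Basic
import Groth.Prelude.Def_OmegaPn
import Mathlib

/-!
# The base change map between graded pieces of ideals, on stalks
-/

set_option autoImplicit false
set_option linter.style.haveILetI false
universe u

open CategoryTheory CategoryTheory.Limits AlgebraicGeometry TopologicalSpace Opposite TensorProduct

noncomputable section

namespace Groth.Agent.H17.GrBase

open Groth.Agent.H06Mod Groth.Agent.H29Omega Groth.Agent.H17.PrinStalk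

variable {X X' : Scheme.{u}}

theorem stalkTo_comp {Y : Scheme.{u}} (p : Y ⟶ X') (q : X' ⟶ X) (y : Y) {x' : X'} {x : X} (h : p y = x')
    (h' : q x' = x) (a : X.presheaf.stalk x) :
    stalkTo p y h (stalkTo q x' h' a) =
      stalkTo (p ≫ q) y (show (p ≫ q) y = x by rw [Scheme.Hom.comp_apply, h, h']) a := by
  obtain ⟨U, hU, s, rfl⟩ := X.presheaf.exists_germ_eq a
  simp only [stalkTo_germ, Scheme.Hom.comp_app]
  rfl

theorem stalkTo_congr {Y : Scheme.{u}} {p p' : Y ⟶ X} (e : p = p') (y : Y) {x : X} (h : p y = x)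
    (a : X.presheaf.stalk x) : stalkTo p y h a = stalkTo p' y (e ▸ h) a := by
  subst e; rfl

/-- Sections of the ideal module from germs. -/
theorem exists_idealSect_of_germ (J : X.IdealSheafData) (W : X.Opens) (r : Γ(X, W))
    (h : ∀ p (hp : p ∈ W), X.presheaf.germ W p hp r ∈ LinearMap.range (idealStalk J p)) :
    ∃ m, OmegaSh.idealSect J W m = r := by
  refine H29Blow.exists_kernelι_app_eq (ClSub.toSubscheme J) W r ?_
  refine TopCat.Presheaf.section_ext (⟨_, ((Scheme.Modules.pushforward J.subschemeι).obj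
    (Coh.structureModule J.subscheme)).isSheaf⟩ : TopCat.Sheaf Ab.{u} X) W _ _ fun p hp => ?_
  obtain ⟨a, ha⟩ := h p hp
  obtain ⟨U, hU, m, rfl⟩ := (ClSub.idealMod J).presheaf.exists_germ_eq a
  rw [idealStalk_germ] at ha
  have e : (Coh.structureModule X).presheaf.germ W p hp r =
      (Coh.structureModule X).presheaf.germ U p hU ((ClSub.idealModι J).app U m) := by
    obtain ⟨O, hO, i, j, hij⟩ := X.presheaf.germ_eq p hp hU _ _ ha.symm
    rw [← TopCat.Presheaf.germ_res_apply _ i p hO, ← TopCat.Presheaf.germ_res_apply _ j p hO]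
    exact congrArg _ hij
  have e1 := congrArg (fun z => stalkLin (ClSub.toSubscheme J) p z) e
  simp only [stalkLin_germ] at e1
  refine e1.trans ?_
  show _ = ((Scheme.Modules.pushforward J.subschemeι).obj (Coh.structureModule J.subscheme)).presheaf.germ W p hp 0
  rw [map_zero, show (ClSub.toSubscheme J).app U ((ClSub.idealModι J).app U m) =
    (ClSub.idealModι J ≫ ClSub.toSubscheme J).app U m from rfl,
    show ClSub.idealModι J ≫ ClSub.toSubscheme J = 0 from kernel.condition _]
  exact map_zero _

variable (v : X' ⟶ X)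

/-- `J` is generated by the image of `I`. -/
def IsComap (I : X.IdealSheafData) (J : X'.IdealSheafData) : Prop :=
  ∀ (U : X.affineOpens) (V : X'.affineOpens) (e : V.1 ≤ v ⁻¹ᵁ U.1),
    J.ideal V = (I.ideal U).map (v.appLE U.1 V.1 e).hom

theorem isComap_pow {f : X'.IdealSheafData} {I : X.IdealSheafData} (h : f = I.comap v) (n : ℕ) :
    IsComap v (I ^ n) (f ^ n) := by
  intro U V e
  show f.ideal V ^ n = Ideal.map _ (I.ideal U ^ n)
  rw [Ideal.map_pow, h, H29Blow.ideal_comap _ v U V e]

theorem range_idealStalk_comap {I : X.IdealSheafData} {J : X'.IdealSheafData} (hJ : IsComap v I J)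
    (x' : X') {x : X} (h : v x' = x) :
    LinearMap.range (idealStalk J x') = Ideal.map (stalkTo v x' h) (LinearMap.range (idealStalk I x)) := by
  obtain ⟨U, V, hV, e⟩ := H29Blow.exists_affine_le v x'
  have hU : x ∈ U.1 := h ▸ e hV
  rw [range_idealStalk J x' V hV, range_idealStalk I x U hU, hJ U V e, Ideal.map_map, Ideal.map_map]
  refine congrArg (fun φ => Ideal.map φ (I.ideal U)) (RingHom.ext fun a => ?_)
  simp only [RingHom.comp_apply, stalkTo_germ]
  show X'.presheaf.germ V.1 x' hV (X'.presheaf.map (homOfLE e).op (v.app U.1 a)) = _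
  rw [TopCat.Presheaf.germ_res_apply]

end Groth.Agent.H17.GrBase
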