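import Groth.Agent.H17.GrBase.Main
import Groth.Agent.H17.PMapBase.Main
import Mathlib

/-!
# The conormal sheaf of a section commutes with base change
-/

set_option autoImplicit false
set_option linter.style.haveILetI false
set_option maxHeartbeats 400000
universe u

open CategoryTheory CategoryTheory.Limits AlgebraicGeometry TopologicalSpace Opposite TensorProduct

noncomputable section

namespace Groth.Agent.H17.GrBase

open Groth.Agent.H06Mod Groth.Agent.H29Omega Groth.Agent.H17.PrinStalk

attribute [local instance] Groth.Agent.H06Mod.stalkAlgebra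

variable {X Y X' Y' : Scheme.{u}} {g : X ⟶ Y} {f : Y ⟶ X} {u : Y' ⟶ Y} {v : X' ⟶ X} {g' : X' ⟶ Y'} {f' : Y' ⟶ X'}

theorem stalkTo_id (y : Y) (r : Y.presheaf.stalk y) : stalkTo (𝟙 Y) y (x := y) rfl r = r := by
  obtain ⟨U, hU, a, rfl⟩ := Y.presheaf.exists_germ_eq r
  rw [stalkTo_germ]
  rfl

theorem section_cartesian (hf : f ≫ g = 𝟙 Y) (hsq : IsPullback v g' g u) (hf' : f' ≫ g' = 𝟙 Y')
    (hf'v : f' ≫ v = u ≫ f) : IsPullback u f' f v := by
  refine (IsPullback.of_right ?_ hf'v hsq.flip).flip
  rw [hf, hf']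
  exact IsPullback.of_horiz_isIso ⟨by simp⟩

/-- The derivation `a ↦ [a - s (f a)]` attached to a section `f` of `g`. -/
theorem exists_deriv [IsClosedImmersion f] (hf : f ≫ g = 𝟙 Y) (y : Y') (x : X) (h' : f.base (u.base y) = x)
    (h'' : g.base x = u.base y) :
    ∃ δ : X.presheaf.stalk x → ((Scheme.Modules.pullback u).obj ((Scheme.Modules.pullback f).obj
        (ClSub.idealMod (f.ker ^ (1 : ℕ))))).presheaf.stalk y,
      (∀ a b, δ (a + b) = δ a + δ b) ∧
      (∀ a b, δ (a * b) = stalkTo u y rfl (stalkTo f _ h' a) • δ b + stalkTo u y rfl (stalkTo f _ h' b) • δ a) ∧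
      (∀ r, δ (stalkTo g x h'' r) = 0) ∧
      ∀ m, δ (idealStalk (f.ker ^ (1 : ℕ)) x m) = G f u 1 y h' m := by
  have hfs : ∀ r, stalkTo f _ h' (stalkTo g x h'' r) = r := fun r => by
    rw [stalkTo_comp, stalkTo_congr hf]
    exact stalkTo_id _ r
  have hmem : ∀ a, a - stalkTo g x h'' (stalkTo f _ h' a) ∈ LinearMap.range (idealStalk (f.ker ^ (1 : ℕ)) x) := fun a => by
    subst h'
    rw [pow_one, range_idealStalk_ker f (u.base y), RingHom.mem_ker]
    have hk : stalkTo f _ rfl (a - stalkTo g _ h'' (stalkTo f _ rfl a)) = 0 := by rw [map_sub, hfs, sub_self]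
    simpa [stalkTo, TopCat.Presheaf.stalkSpecializes_refl] using hk
  have hker : ∀ m, stalkTo f _ h' (idealStalk (f.ker ^ (1 : ℕ)) x m) = 0 := fun m => by
    subst h'
    have h1 : LinearMap.range (idealStalk (f.ker ^ (1 : ℕ)) (f.base (u.base y))) =
        LinearMap.range (idealStalk f.ker (f.base (u.base y))) := by rw [pow_one]
    have := h1.le ⟨m, rfl⟩
    rw [range_idealStalk_ker f (u.base y), RingHom.mem_ker] at this
    simpa [stalkTo, TopCat.Presheaf.stalkSpecializes_refl] using this
  choose d hd using hmem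
  have hinj := idealStalk_injective (f.ker ^ (1 : ℕ)) x
  have hG_add : ∀ a b, G f u 1 y h' (a + b) = G f u 1 y h' a + G f u 1 y h' b := fun a b => by
    simp only [G, map_add]
  refine ⟨fun a => G f u 1 y h' (d a), fun a b => ?_, fun a b => ?_, fun r => ?_, fun m => ?_⟩
  · rw [← hG_add]
    exact congrArg _ (hinj (by rw [map_add, hd, hd, hd, map_add, map_add, add_sub_add_comm]))
  · have hq : ∀ a, stalkTo u y rfl (stalkTo f _ h' (stalkTo g x h'' (stalkTo f _ h' a))) =
        stalkTo u y rfl (stalkTo f _ h' a) := fun a => congrArg _ (hfs _)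
    rw [← hq a, ← G_smul f u 1 y h', ← G_smul f u 1 y h', ← hG_add]
    refine congrArg _ (hinj ?_)
    rw [map_add, LinearMap.map_smul, LinearMap.map_smul, hd, hd, hd, map_mul, map_mul, smul_eq_mul, smul_eq_mul]
    ring
  · have : d (stalkTo g x h'' r) = 0 := hinj (by rw [hd, hfs, sub_self, map_zero])
    simp only [this, G, map_zero]
  · refine congrArg _ (hinj ?_)
    rw [hd, hker, map_zero, sub_zero]

theorem bijective_stalk_one [IsClosedImmersion f] (hf : f ≫ g = 𝟙 Y) (hsq : IsPullback v g' g u)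
    (hf' : f' ≫ g' = 𝟙 Y') (hf'v : f' ≫ v = u ≫ f)
    (φ : (Scheme.Modules.pullback u).obj (PrinPart.grMod f 1) ⟶ PrinPart.grMod f' 1)
    (hφ : PrinPart.IsGrMap f' f v u 1 φ) (y : Y') :
    Function.Bijective (stalkLin (M := (Scheme.Modules.pullback u).obj ((Scheme.Modules.pullback f).obj (ClSub.idealMod (f.ker ^ (1 : ℕ)))))
      (N := (Scheme.Modules.pullback f').obj (ClSub.idealMod (f'.ker ^ (1 : ℕ)))) φ y) := by
  have hker : f'.ker = f.ker.comap v :=
    ker_eq_comap (f := f) (v := v) (u := u) (f' := f') (section_cartesian hf hsq hf' hf'v)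
  refine ⟨?_, surjective_stalk φ hker hφ y⟩
  have h' : f.base (u.base y) = v.base (f'.base y) := by
    show f (u y) = v (f' y)
    rw [← Scheme.Hom.comp_apply, ← Scheme.Hom.comp_apply, hf'v]
  have h'' : g (v.base (f'.base y)) = u.base y := by
    rw [← h', ← Scheme.Hom.comp_apply, hf]
    rfl
  let x' := f'.base y
  let x := v.base x'
  let R := Y.presheaf.stalk (g.base x)
  let A := X.presheaf.stalk x
  let R' := Y'.presheaf.stalk (g'.base x')
  let A' := X'.presheaf.stalk x'
  let K := Y'.presheaf.stalk y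
  letI : Algebra R R' := (baseStalkMap g g' u v hsq.w x').hom.toAlgebra
  letI : Algebra R A' := ((v.stalkMap x').hom.comp (g.stalkMap x).hom).toAlgebra
  haveI : IsScalarTower R A A' := .of_algebraMap_eq fun _ => rfl
  haveI : IsScalarTower R R' A' := .of_algebraMap_eq fun r =>
    (congr($(congrArg CommRingCat.Hom.hom (baseStalkMap_comp g g' u v hsq.w x')) r)).symm
  let c : Spec A' ⟶ pullback g u := X'.fromSpecStalk x' ≫ hsq.isoPullback.hom
  haveI : Flat (X'.fromSpecStalk x') := inferInstance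
  haveI : Flat c := inferInstance
  haveI : Mono c := mono_comp _ _
  have hc1 : Spec.map (CommRingCat.ofHom (algebraMap A A')) ≫ X.fromSpecStalk x = c ≫ pullback.fst g u := by
    rw [Category.assoc, hsq.isoPullback_hom_fst]
    exact Scheme.SpecMap_stalkMap_fromSpecStalk v
  have hc2 : Spec.map (CommRingCat.ofHom (algebraMap R' A')) ≫ Y'.fromSpecStalk (g'.base x') =
      c ≫ pullback.snd g u := by
    rw [Category.assoc, hsq.isoPullback_hom_snd]
    exact Scheme.SpecMap_stalkMap_fromSpecStalk g'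
  letI : Algebra (A ⊗[R] R') A' := (H06Mod.tensorLift R A R' A').toRingHom.toAlgebra
  haveI : Module.Flat (A ⊗[R] R') A' := H06Mod.flat_tensorLift R A R' A' g u (X.fromSpecStalk x)
    (Y.fromSpecStalk (g.base x)) (Y'.fromSpecStalk (g'.base x'))
    (Scheme.SpecMap_stalkMap_fromSpecStalk g) (specMap_baseStalkMap g g' u v hsq.w x') c hc1 hc2
  haveI : Algebra.IsEpi (A ⊗[R] R') A' := CommRingCat.epi_iff_epi.mp
    (epi_tensorLift R A R' A' g u (X.fromSpecStalk x) (Y.fromSpecStalk (g.base x)) (Y'.fromSpecStalk (g'.base x'))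
      (Scheme.SpecMap_stalkMap_fromSpecStalk g) (specMap_baseStalkMap g g' u v hsq.w x') c hc1 hc2)
  obtain ⟨S, hS⟩ := PMapBase.isLocalization_of_flat_epi_local (A ⊗[R] R') A'
  -- the source module
  let N := ((Scheme.Modules.pullback u).obj ((Scheme.Modules.pullback f).obj (ClSub.idealMod (f.ker ^ (1 : ℕ))))).presheaf.stalk y
  letI : Module Kᵐᵒᵖ N := Module.compHom N ((RingHom.id K).fromOpposite mul_comm)
  haveI : IsCentralScalar K N := ⟨fun _ _ => rfl⟩
  let q : A →+* K := (stalkTo u y rfl).comp (stalkTo f (u.base y) h')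
  let s : Y.presheaf.stalk (u.base y) →+* A := stalkTo g x h''
  let fs : A →+* Y.presheaf.stalk (u.base y) := stalkTo f (u.base y) h'
  obtain ⟨δ, hδadd, hδmul, hδs, hδι⟩ := exists_deriv (u := u) hf y x h' h''
  let Gm : (ClSub.idealMod (f.ker ^ (1 : ℕ))).presheaf.stalk x → N := G f u 1 y h'
  have hd1 : δ 1 = 0 := by
    have h := hδs 1
    rwa [map_one] at h
  have hd0 : δ 0 = 0 := by
    have h := hδs 0
    rwa [map_zero] at h
  let ρA : A →+* TrivSqZeroExt K N :=
    { toFun := fun a => TrivSqZeroExt.inl (q a) + TrivSqZeroExt.inr (δ a)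
      map_one' := TrivSqZeroExt.ext (by simp) (by simp [hd1])
      map_mul' := fun a b => TrivSqZeroExt.ext (by simp) (by
        simp [hδmul, q])
      map_zero' := TrivSqZeroExt.ext (by simp) (by simp [hd0])
      map_add' := fun a b => TrivSqZeroExt.ext (by simp) (by simp [hδadd]) }
  let κ : R' →+* K := (stalkTo f' y (x := x') rfl).comp (algebraMap R' A')
  have hcompat : ∀ r : R, ρA (algebraMap R A r) = TrivSqZeroExt.inl (κ (algebraMap R R' r)) := by
    intro r
    have e1 : algebraMap R A r = stalkTo g x (rfl : g.base x = g.base x) r := by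
      simp [stalkTo, TopCat.Presheaf.stalkSpecializes_refl]
      rfl
    have e2 : s (fs (algebraMap R A r)) = algebraMap R A r := by
      rw [e1]
      show stalkTo g x h'' (stalkTo f _ h' (stalkTo g x rfl r)) = _
      rw [stalkTo_comp f g, stalkTo_congr hf, stalkTo_comp g (𝟙 Y)]
      exact stalkTo_congr (Category.comp_id g) x _ r
    refine TrivSqZeroExt.ext ?_ ?_
    · have e3 : κ (algebraMap R R' r) = stalkTo f' y (x := x') rfl (stalkTo v x' (x := x) rfl (algebraMap R A r)) := by
        show stalkTo f' y rfl (algebraMap R' A' (algebraMap R R' r)) = _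
        rw [← IsScalarTower.algebraMap_apply, IsScalarTower.algebraMap_apply R A A']
        simp [stalkTo, TopCat.Presheaf.stalkSpecializes_refl]
        rfl
      show TrivSqZeroExt.fst (ρA (algebraMap R A r)) = _
      simp only [TrivSqZeroExt.fst_inl]
      rw [e3, stalkTo_comp, stalkTo_congr hf'v]
      simp only [ρA, RingHom.coe_mk, MonoidHom.coe_mk, OneHom.coe_mk, TrivSqZeroExt.fst_add,
        TrivSqZeroExt.fst_inl, TrivSqZeroExt.fst_inr, add_zero]
      exact stalkTo_comp u f y rfl h' _
    · have : δ (algebraMap R A r) = 0 := by rw [← e2]; exact hδs _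
      simp [ρA, this]
  letI : Algebra R (TrivSqZeroExt K N) := (ρA.comp (algebraMap R A)).toAlgebra
  let T₁ : A →ₐ[R] TrivSqZeroExt K N := { ρA with commutes' := fun _ => rfl }
  let T₂ : R' →ₐ[R] TrivSqZeroExt K N :=
    { (TrivSqZeroExt.inlHom K N).comp κ with commutes' := fun r => (hcompat r).symm }
  let ρT := Algebra.TensorProduct.lift T₁ T₂ fun _ _ => Commute.all _ _
  have hfst : ∀ t : A ⊗[R] R', TrivSqZeroExt.fst (ρT t) = stalkTo f' y (x := x') rfl (algebraMap _ A' t) := by
    intro t
    induction t using TensorProduct.induction_on with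
    | zero => simp
    | add a b ha hb => simp only [map_add, TrivSqZeroExt.fst_add, ha, hb]
    | tmul a r =>
      have e : algebraMap (A ⊗[R] R') A' (a ⊗ₜ r) = algebraMap A A' a * algebraMap R' A' r := by
        show H06Mod.tensorLift R A R' A' (a ⊗ₜ r) = _
        simp [H06Mod.tensorLift]
      have e2 : stalkTo f' y (x := x') rfl (algebraMap A A' a) = q a := by
        have : algebraMap A A' a = stalkTo v x' (x := x) rfl a := by
          simp [stalkTo, TopCat.Presheaf.stalkSpecializes_refl]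
          rfl
        rw [this, stalkTo_comp, stalkTo_congr hf'v]
        exact (stalkTo_comp u f y rfl h' a).symm
      rw [e, map_mul, e2, show ρT (a ⊗ₜ r) = ρA a * TrivSqZeroExt.inl (κ r) from
        Algebra.TensorProduct.lift_tmul T₁ T₂ (fun _ _ => Commute.all _ _) a r, TrivSqZeroExt.fst_mul]
      simp [ρA, κ]
  have hu : ∀ t : S, IsUnit (ρT.toRingHom t) := fun t => by
    rw [TrivSqZeroExt.isUnit_iff_isUnit_fst]
    show IsUnit (TrivSqZeroExt.fst (ρT t))
    rw [hfst]
    exact (IsLocalization.map_units A' t).map _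
  let ρ : A' →+* TrivSqZeroExt K N := IsLocalization.lift hu
  have hρfst : ∀ a, TrivSqZeroExt.fst (ρ a) = stalkTo f' y (x := x') rfl a := by
    have : (TrivSqZeroExt.fstHom K K N).toRingHom.comp ρ = stalkTo f' y (x := x') rfl :=
      IsLocalization.ringHom_ext S (RingHom.ext fun t => by
        show TrivSqZeroExt.fst (ρ (algebraMap _ A' t)) = _
        rw [IsLocalization.lift_eq]
        exact hfst t)
    exact fun a => RingHom.congr_fun this a
  have hρv : ∀ a : A, ρ (stalkTo v x' (x := x) rfl a) = ρA a := fun a => by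
    have : stalkTo v x' (x := x) rfl a = algebraMap (A ⊗[R] R') A' (a ⊗ₜ 1) := by
      show _ = H06Mod.tensorLift R A R' A' (a ⊗ₜ 1)
      simp [H06Mod.tensorLift, stalkTo, TopCat.Presheaf.stalkSpecializes_refl]
      rfl
    rw [this, IsLocalization.lift_eq]
    exact (Algebra.TensorProduct.lift_tmul T₁ T₂ (fun _ _ => Commute.all _ _) a 1).trans (by rw [map_one T₂, mul_one]; rfl)
  let β : (ClSub.idealMod (f'.ker ^ (1 : ℕ))).presheaf.stalk x' →+ N :=
    { toFun := fun m => TrivSqZeroExt.snd (ρ (idealStalk (f'.ker ^ (1 : ℕ)) x' m))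
      map_zero' := by simp
      map_add' := fun a b => by simp }
  have hfi : ∀ m, stalkTo f' y (x := x') rfl (idealStalk (f'.ker ^ (1 : ℕ)) x' m) = 0 := fun m => by
    have hm : idealStalk (f'.ker ^ (1 : ℕ)) x' m ∈ RingHom.ker (f'.stalkMap y).hom := by
      haveI : IsClosedImmersion f' := MorphismProperty.of_isPullback (section_cartesian hf hsq hf' hf'v) inferInstance
      rw [← range_idealStalk_ker f' y]
      have h1 : LinearMap.range (idealStalk (f'.ker ^ (1 : ℕ)) x') = LinearMap.range (idealStalk f'.ker x') := by rw [pow_one]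
      exact h1.le ⟨m, rfl⟩
    simp [stalkTo, TopCat.Presheaf.stalkSpecializes_refl]
    exact hm
  have hβ : ∀ r m, β (r • m) = stalkTo f' y (x := x') rfl r • β m := fun r m => by
    show TrivSqZeroExt.snd (ρ (idealStalk (f'.ker ^ (1 : ℕ)) x' (r • m))) = _
    rw [LinearMap.map_smul, smul_eq_mul, map_mul, TrivSqZeroExt.snd_mul, hρfst, hρfst, hfi]
    simp [β]
  obtain ⟨Θ, hΘ⟩ := exists_lift_pullTo f' (ClSub.idealMod (f'.ker ^ (1 : ℕ))) y (x := x') rfl β hβ
  refine Function.LeftInverse.injective (g := Θ) fun w => ?_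
  have hw : w ∈ Submodule.span K (Set.range (G f u 1 y h')) := by
    rw [span_G]; trivial
  induction hw using Submodule.span_induction with
  | mem w hw =>
    obtain ⟨m, rfl⟩ := hw
    obtain ⟨m', hm'⟩ : stalkTo v x' (x := x) rfl (idealStalk (f.ker ^ (1 : ℕ)) x m) ∈
        LinearMap.range (idealStalk (f'.ker ^ (1 : ℕ)) x') := by
      rw [range_idealStalk_comap v (isComap_pow v hker 1) x' (x := x) rfl]
      exact Ideal.mem_map_of_mem _ ⟨m, rfl⟩
    rw [stalk_φ φ hker hφ y rfl h' m m' hm', hΘ]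
    show TrivSqZeroExt.snd (ρ (idealStalk (f'.ker ^ (1 : ℕ)) x' m')) = _
    rw [hm', hρv]
    simp [ρA, hδι, Gm]
  | zero => simp
  | add a b _ _ ha hb => rw [map_add, map_add, ha, hb]
  | smul r a _ ha => rw [map_smul, map_smul, ha]

end Groth.Agent.H17.GrBase
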