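import Groth.Agent.H17.GrBase.Main
import Groth.Agent.H17.PMapBase.Main
import Groth.Agent.H17.GrBase.Section
import Mathlib

/-!
# Flat graded pieces along a section and base change
-/

set_option autoImplicit false
set_option linter.style.haveILetI false
set_option maxHeartbeats 800000
universe u

open CategoryTheory CategoryTheory.Limits AlgebraicGeometry TopologicalSpace Opposite TensorProduct

noncomputable section

namespace Groth.Agent.H17.GrBase

open Groth.Agent.H06Mod Groth.Agent.H29Omega Groth.Agent.H17.PrinStalk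

attribute [local instance] Groth.Agent.H06Mod.stalkAlgebra

variable {X Y X' Y' : Scheme.{u}} {g : X ⟶ Y} {f : Y ⟶ X} {u : Y' ⟶ Y} {v : X' ⟶ X} {g' : X' ⟶ Y'} {f' : Y' ⟶ X'}

theorem range_idealStalk_pow (J : X.IdealSheafData) (x : X) (k : ℕ) :
    LinearMap.range (idealStalk (J ^ k) x) = (LinearMap.range (idealStalk J x)) ^ k := by
  obtain ⟨_, ⟨U, hU : IsAffineOpen U, rfl⟩, hxU, -⟩ :=
    X.isBasis_affineOpens.exists_subset_of_mem_open (show x ∈ (⊤ : X.Opens) from trivial) (⊤ : X.Opens).isOpen
  rw [range_idealStalk (J ^ k) x ⟨U, hU⟩ hxU, range_idealStalk J x ⟨U, hU⟩ hxU]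
  show Ideal.map _ (J.ideal ⟨U, hU⟩ ^ k) = _
  rw [Ideal.map_pow]

theorem range_idealStalk_ker_stalkTo (f : Y ⟶ X) [IsClosedImmersion f] (y : Y) {x : X} (h : f y = x) :
    LinearMap.range (idealStalk f.ker x) = RingHom.ker (stalkTo f y h) := by
  subst h
  rw [range_idealStalk_ker f y]
  refine congrArg RingHom.ker (RingHom.ext fun a => ?_)
  simp [stalkTo, TopCat.Presheaf.stalkSpecializes_refl]

/-- Flat graded pieces keep the powers of the ideal of a section inside the ring after base change. -/
theorem lTensor_pow_injective [IsClosedImmersion f] (hf : f ≫ g = 𝟙 Y) (x : X) (h' : f (g x) = x) (n : ℕ)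
    (hflat : ∀ k < n, Module.Flat (Y.presheaf.stalk (g x))
      (((Scheme.Modules.pullback f).obj (ClSub.idealMod (f.ker ^ k))).presheaf.stalk (g x)))
    [Algebra (Y.presheaf.stalk (g x)) (X.presheaf.stalk x)]
    (halg : ∀ r, algebraMap (Y.presheaf.stalk (g x)) (X.presheaf.stalk x) r = stalkTo g x rfl r)
    (R' : Type u) [AddCommGroup R'] [Module (Y.presheaf.stalk (g x)) R'] :
    Function.Injective (LinearMap.lTensor R'
      ((((LinearMap.range (idealStalk f.ker x)) ^ n : Ideal (X.presheaf.stalk x))).subtype.restrictScalars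
        (Y.presheaf.stalk (g x)))) := by
  let R := Y.presheaf.stalk (g x)
  let A := X.presheaf.stalk x
  let fs : A →+* R := stalkTo f (g x) h'
  let I : Ideal A := LinearMap.range (idealStalk f.ker x)
  have hI : I = RingHom.ker fs := range_idealStalk_ker_stalkTo f (g x) h'
  have hfs : ∀ r, fs (algebraMap R A r) = r := fun r => by
    show stalkTo f (g x) h' (algebraMap R A r) = r
    rw [halg, stalkTo_comp, stalkTo_congr hf]
    exact stalkTo_id _ r
  have hsub : ∀ a : A, a - algebraMap R A (fs a) ∈ I := fun a => by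
    rw [hI, RingHom.mem_ker, map_sub, hfs, sub_self]
  induction n with
  | zero =>
    have hsurj : Function.Bijective ((I ^ 0).subtype.restrictScalars R) := by
      refine ⟨fun a b hab => Subtype.ext hab, fun a => ⟨⟨a, ?_⟩, rfl⟩⟩
      rw [pow_zero, Ideal.one_eq_top]
      trivial
    exact ((LinearEquiv.ofBijective _ hsurj).lTensor R').injective
  | succ k ih =>
    let P := ((Scheme.Modules.pullback f).obj (ClSub.idealMod (f.ker ^ k))).presheaf.stalk (g x)
    haveI : Module.Flat R P := hflat k k.lt_succ_self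
    have hrg : LinearMap.range (idealStalk (f.ker ^ k) x) = I ^ k := range_idealStalk_pow f.ker x k
    let e : (ClSub.idealMod (f.ker ^ k)).presheaf.stalk x ≃ₗ[A] ↥(I ^ k) :=
      (LinearEquiv.ofInjective _ (idealStalk_injective (f.ker ^ k) x)).trans (LinearEquiv.ofEq _ _ hrg)
    let π : ↥(I ^ k) →ₗ[R] P :=
      { toFun := fun a => pullTo f (ClSub.idealMod (f.ker ^ k)) (g x) h' (e.symm a)
        map_add' := fun a b => by rw [map_add, map_add]
        map_smul' := fun r a => by
          rw [← algebraMap_smul A r a, LinearEquiv.map_smul, pullTo_smul]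
          exact congrArg (· • _) (hfs r) }
    have hπ : ∀ (a : A) (m : ↥(I ^ k)), π (a • m) = fs a • π m := fun a m => by
      show pullTo f (ClSub.idealMod (f.ker ^ k)) (g x) h' (e.symm (a • m)) = _
      rw [LinearEquiv.map_smul, pullTo_smul]
      rfl
    have hsurj : Function.Surjective π := by
      rw [← LinearMap.range_eq_top, eq_top_iff, ← span_pullTo f (ClSub.idealMod (f.ker ^ k)) (g x) h',
        Submodule.span_le]
      rintro _ ⟨m, rfl⟩
      refine ⟨e m, ?_⟩
      show pullTo f (ClSub.idealMod (f.ker ^ k)) (g x) h' (e.symm (e m)) = _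
      rw [e.symm_apply_apply]
    let j : ↥(I ^ (k + 1)) →ₗ[R] ↥(I ^ k) :=
      (Submodule.inclusion (Ideal.pow_le_pow_right k.le_succ)).restrictScalars R
    have hexact : Function.Exact j π := by
      intro m
      constructor
      · intro hm
        let N := ↥(I ^ k) ⧸ (I • ⊤ : Submodule A ↥(I ^ k))
        let β : (ClSub.idealMod (f.ker ^ k)).presheaf.stalk x →+ N :=
          (Submodule.mkQ (I • ⊤ : Submodule A ↥(I ^ k))).toAddMonoidHom.comp e.toLinearMap.toAddMonoidHom
        obtain ⟨Θ, hΘ⟩ := exists_lift_pullTo f (ClSub.idealMod (f.ker ^ k)) (g x) h' (N := N) β fun r m => by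
          show Submodule.Quotient.mk (e (r • m)) = (fs r) • (Submodule.Quotient.mk (e m) : N)
          rw [← algebraMap_smul A (fs r) (Submodule.Quotient.mk (e m) : N), ← Submodule.Quotient.mk_smul,
            Submodule.Quotient.eq, LinearEquiv.map_smul, ← sub_smul]
          exact Submodule.smul_mem_smul (hsub r) trivial
        have h0 : (Submodule.Quotient.mk m : N) = 0 := by
          have := hΘ (e.symm m)
          rw [show pullTo f (ClSub.idealMod (f.ker ^ k)) (g x) h' (e.symm m) = 0 from hm, map_zero] at this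
          rw [this]
          exact (congrArg (fun z => (Submodule.Quotient.mk z : N)) (e.apply_symm_apply m)).symm
        rw [Submodule.Quotient.mk_eq_zero] at h0
        have hm' : (m : A) ∈ I ^ (k + 1) := by
          have := Submodule.mem_map_of_mem (f := (I ^ k).subtype) h0
          rwa [Submodule.map_smul'', Submodule.map_top, Submodule.range_subtype, smul_eq_mul, ← pow_succ'] at this
        exact ⟨⟨_, hm'⟩, Subtype.ext rfl⟩
      · rintro ⟨⟨a, ha⟩, rfl⟩
        rw [pow_succ'] at ha
        suffices hC : ∃ ha' : a ∈ I ^ k, π ⟨a, ha'⟩ = 0 by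
          obtain ⟨ha', h0⟩ := hC
          exact h0
        refine Submodule.mul_induction_on (C := fun a => ∃ ha' : a ∈ I ^ k, π ⟨a, ha'⟩ = 0) ha ?_ ?_
        · intro i hi b hb
          have hi' : fs i = 0 := by rwa [hI, RingHom.mem_ker] at hi
          refine ⟨Ideal.mul_mem_left _ i hb, ?_⟩
          exact (hπ i ⟨b, hb⟩).trans (by rw [hi', zero_smul])
        · rintro a b ⟨ha, iha⟩ ⟨hb, ihb⟩
          refine ⟨add_mem ha hb, ?_⟩
          exact (π.map_add ⟨a, ha⟩ ⟨b, hb⟩).trans (by rw [iha, ihb, add_zero])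
    have hj : Function.Injective j := fun a b hab => Subtype.ext (congrArg (fun z : ↥(I ^ k) => (z : A)) hab)
    have h1 := LinearMap.lTensor_injective_of_exact_of_flat π hsurj j hj hexact R'
    have h2 := ih fun i hi => hflat i (hi.trans k.lt_succ_self)
    have e2 : (I ^ (k + 1)).subtype.restrictScalars R = (I ^ k).subtype.restrictScalars R ∘ₗ j := rfl
    show Function.Injective (LinearMap.lTensor R' ((I ^ (k + 1)).subtype.restrictScalars R))
    rw [e2, LinearMap.lTensor_comp]
    exact h2.comp h1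

theorem injective_stalk_of_flat [IsClosedImmersion f] (hf : f ≫ g = 𝟙 Y) (hsq : IsPullback v g' g u)
    (hf' : f' ≫ g' = 𝟙 Y') (hf'v : f' ≫ v = u ≫ f) {n : ℕ}
    (hflat : ∀ k < n, ∀ y : Y, Module.Flat (Y.presheaf.stalk y)
      (((Scheme.Modules.pullback f).obj (ClSub.idealMod (f.ker ^ k))).presheaf.stalk y))
    (φ : (Scheme.Modules.pullback u).obj (PrinPart.grMod f n) ⟶ PrinPart.grMod f' n)
    (hφ : PrinPart.IsGrMap f' f v u n φ) (y : Y') :
    Function.Injective (stalkLin (M := (Scheme.Modules.pullback u).obj ((Scheme.Modules.pullback f).obj (ClSub.idealMod (f.ker ^ n))))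
      (N := (Scheme.Modules.pullback f').obj (ClSub.idealMod (f'.ker ^ n))) φ y) := by
  have hker : f'.ker = f.ker.comap v :=
    ker_eq_comap (f := f) (v := v) (u := u) (f' := f') (section_cartesian hf hsq hf' hf'v)
  have h' : f.base (u.base y) = v.base (f'.base y) := by
    show f (u y) = v (f' y)
    rw [← Scheme.Hom.comp_apply, ← Scheme.Hom.comp_apply, hf'v]
  have h'' : g (v.base (f'.base y)) = u.base y := by
    rw [← h', ← Scheme.Hom.comp_apply, hf]
    rfl
  let x' := f'.base y
  let x := v.base x'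
  let R := Y.presheaf.stalk (g.base x)
  let A := X.presheaf.stalk x
  let R' := Y'.presheaf.stalk (g'.base x')
  let A' := X'.presheaf.stalk x'
  let K := Y'.presheaf.stalk y
  letI : Algebra R R' := (baseStalkMap g g' u v hsq.w x').hom.toAlgebra
  letI : Algebra R A' := ((v.stalkMap x').hom.comp (g.stalkMap x).hom).toAlgebra
  haveI : IsScalarTower R A A' := .of_algebraMap_eq fun _ => rfl
  haveI : IsScalarTower R R' A' := .of_algebraMap_eq fun r =>
    (congr($(congrArg CommRingCat.Hom.hom (baseStalkMap_comp g g' u v hsq.w x')) r)).symm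
  let c : Spec A' ⟶ pullback g u := X'.fromSpecStalk x' ≫ hsq.isoPullback.hom
  haveI : Flat (X'.fromSpecStalk x') := inferInstance
  haveI : Flat c := inferInstance
  haveI : Mono c := mono_comp _ _
  have hc1 : Spec.map (CommRingCat.ofHom (algebraMap A A')) ≫ X.fromSpecStalk x = c ≫ pullback.fst g u := by
    rw [Category.assoc, hsq.isoPullback_hom_fst]
    exact Scheme.SpecMap_stalkMap_fromSpecStalk v
  have hc2 : Spec.map (CommRingCat.ofHom (algebraMap R' A')) ≫ Y'.fromSpecStalk (g'.base x') =
      c ≫ pullback.snd g u := by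
    rw [Category.assoc, hsq.isoPullback_hom_snd]
    exact Scheme.SpecMap_stalkMap_fromSpecStalk g'
  letI : Algebra (A ⊗[R] R') A' := (H06Mod.tensorLift R A R' A').toRingHom.toAlgebra
  haveI : Module.Flat (A ⊗[R] R') A' := H06Mod.flat_tensorLift R A R' A' g u (X.fromSpecStalk x)
    (Y.fromSpecStalk (g.base x)) (Y'.fromSpecStalk (g'.base x'))
    (Scheme.SpecMap_stalkMap_fromSpecStalk g) (specMap_baseStalkMap g g' u v hsq.w x') c hc1 hc2
  haveI : Algebra.IsEpi (A ⊗[R] R') A' := CommRingCat.epi_iff_epi.mp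
    (epi_tensorLift R A R' A' g u (X.fromSpecStalk x) (Y.fromSpecStalk (g.base x)) (Y'.fromSpecStalk (g'.base x'))
      (Scheme.SpecMap_stalkMap_fromSpecStalk g) (specMap_baseStalkMap g g' u v hsq.w x') c hc1 hc2)
  obtain ⟨S, hS⟩ := PMapBase.isLocalization_of_flat_epi_local (A ⊗[R] R') A'
  let qT : (A ⊗[R] R') →+* K := (stalkTo f' y (x := x') rfl).comp (algebraMap (A ⊗[R] R') A')
  let κ : R' →+* K := (stalkTo f' y (x := x') rfl).comp (algebraMap R' A')
  let I : Ideal A := LinearMap.range (idealStalk f.ker x)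
  have hrg : LinearMap.range (idealStalk (f.ker ^ n) x) = I ^ n := range_idealStalk_pow f.ker x n
  let e : (ClSub.idealMod (f.ker ^ n)).presheaf.stalk x ≃ₗ[A] ↥(I ^ n) :=
    (LinearEquiv.ofInjective _ (idealStalk_injective (f.ker ^ n) x)).trans (LinearEquiv.ofEq _ _ hrg)
  let Gm : ↥(I ^ n) → ((Scheme.Modules.pullback u).obj ((Scheme.Modules.pullback f).obj
      (ClSub.idealMod (f.ker ^ n)))).presheaf.stalk y := fun a => G f u n y h' (e.symm a)
  have hGadd : ∀ a b, Gm (a + b) = Gm a + Gm b := fun a b => by simp only [Gm, G, map_add]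
  have hq : ∀ a : A, stalkTo f' y (x := x') rfl (algebraMap A A' a) = stalkTo u y rfl (stalkTo f (u.base y) h' a) := fun a => by
    have : algebraMap A A' a = stalkTo v x' (x := x) rfl a := by
      simp [stalkTo, TopCat.Presheaf.stalkSpecializes_refl]
      rfl
    rw [this, stalkTo_comp, stalkTo_congr hf'v]
    exact (stalkTo_comp u f y rfl h' a).symm
  have hGsmul : ∀ (a : A) m, Gm (a • m) = stalkTo f' y (x := x') rfl (algebraMap A A' a) • Gm m := fun a m => by
    show G f u n y h' (e.symm (a • m)) = _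
    rw [LinearEquiv.map_smul, G_smul, hq]
  have hκ : ∀ r : R, κ (algebraMap R R' r) = stalkTo f' y (x := x') rfl (algebraMap A A' (algebraMap R A r)) := fun r => by
    show stalkTo f' y (x := x') rfl (algebraMap R' A' (algebraMap R R' r)) = _
    rw [← IsScalarTower.algebraMap_apply, IsScalarTower.algebraMap_apply R A A']
  have hv : ∀ a : A, stalkTo v x' (x := x) rfl a = algebraMap A A' a := fun a => by
    simp [stalkTo, TopCat.Presheaf.stalkSpecializes_refl]
    rfl
  have htl : ∀ (a : A) (r : R'), algebraMap (A ⊗[R] R') A' (a ⊗ₜ r) = algebraMap A A' a * algebraMap R' A' r :=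
    fun a r => by
      show H06Mod.tensorLift R A R' A' (a ⊗ₜ r) = _
      simp [H06Mod.tensorLift]
  have hqu : ∀ s : S, IsUnit (qT s) := fun s => by
    show IsUnit (stalkTo f' y (x := x') rfl (algebraMap (A ⊗[R] R') A' s))
    exact (IsLocalization.map_units A' s).map _
  -- the map on the tensor product
  let γ₀ : R' ⊗[R] ↥(I ^ n) →+ ((Scheme.Modules.pullback u).obj ((Scheme.Modules.pullback f).obj
      (ClSub.idealMod (f.ker ^ n)))).presheaf.stalk y :=
    TensorProduct.liftAddHom
      { toFun := fun r => ({ toFun := fun a => κ r • Gm a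
                             map_zero' := by simp [Gm, G]
                             map_add' := fun a b => by rw [hGadd, smul_add] } : ↥(I ^ n) →+ _)
        map_zero' := AddMonoidHom.ext fun a => by simp
        map_add' := fun r s => AddMonoidHom.ext fun a => by simp [add_smul] }
      fun c r a => by
        show κ (c • r) • Gm a = κ r • Gm (c • a)
        rw [Algebra.smul_def, map_mul, ← algebraMap_smul A c a, hGsmul, smul_smul, hκ, mul_comm]
  let Φ : R' ⊗[R] ↥(I ^ n) →ₗ[R] A ⊗[R] R' :=
    (TensorProduct.comm R R' A).toLinearMap ∘ₗ ((I ^ n).subtype.restrictScalars R).lTensor R'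
  have hΦ : Function.Injective Φ := (TensorProduct.comm R R' A).injective.comp
    (lTensor_pow_injective hf x (h'' ▸ h') n (fun k hk => hflat k hk _)
      (fun r => by simp [stalkTo, TopCat.Presheaf.stalkSpecializes_refl]; rfl) R')
  have hmul : ∀ t w, ∃ w', Φ w' = t * Φ w ∧ γ₀ w' = qT t • γ₀ w := by
    intro t w
    induction t using TensorProduct.induction_on with
    | zero => exact ⟨0, by simp, by simp⟩
    | add t₁ t₂ h₁ h₂ =>
      obtain ⟨w₁, e₁, d₁⟩ := h₁
      obtain ⟨w₂, e₂, d₂⟩ := h₂
      exact ⟨w₁ + w₂, by rw [map_add, e₁, e₂, add_mul], by rw [map_add, d₁, d₂, map_add qT, add_smul]⟩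
    | tmul a r =>
      induction w using TensorProduct.induction_on with
      | zero => exact ⟨0, by simp, by simp⟩
      | add w₁ w₂ h₁ h₂ =>
        obtain ⟨v₁, e₁, d₁⟩ := h₁
        obtain ⟨v₂, e₂, d₂⟩ := h₂
        exact ⟨v₁ + v₂, by rw [map_add, e₁, e₂, map_add, mul_add],
          by rw [map_add, d₁, d₂, map_add, smul_add]⟩
      | tmul r₀ m =>
        refine ⟨(r * r₀) ⊗ₜ (a • m), ?_, ?_⟩
        · simp [Φ, Algebra.TensorProduct.tmul_mul_tmul]
        · show κ (r * r₀) • Gm (a • m) = qT (a ⊗ₜ r) • κ r₀ • Gm m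
          have : qT (a ⊗ₜ r) = stalkTo f' y (x := x') rfl (algebraMap A A' a) * κ r := by
            show stalkTo f' y (x := x') rfl (algebraMap (A ⊗[R] R') A' (a ⊗ₜ r)) = _
            rw [htl, map_mul]
            rfl
          rw [hGsmul, smul_smul, smul_smul, this, map_mul]
          exact congrArg (· • Gm m) (by ring)
  let JT : Ideal (A ⊗[R] R') :=
    { carrier := Set.range Φ
      add_mem' := by rintro _ _ ⟨a, rfl⟩ ⟨b, rfl⟩; exact ⟨a + b, map_add _ _ _⟩
      zero_mem' := ⟨0, map_zero _⟩
      smul_mem' := by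
        rintro t _ ⟨w, rfl⟩
        obtain ⟨w', hw', -⟩ := hmul t w
        exact ⟨w', hw'⟩ }
  letI : Module (A ⊗[R] R') (((Scheme.Modules.pullback u).obj ((Scheme.Modules.pullback f).obj
      (ClSub.idealMod (f.ker ^ n)))).presheaf.stalk y) := Module.compHom _ qT
  choose inv hinv using fun z : JT => (z.2 : (z : A ⊗[R] R') ∈ Set.range Φ)
  let γ : JT →ₗ[A ⊗[R] R'] (((Scheme.Modules.pullback u).obj ((Scheme.Modules.pullback f).obj
      (ClSub.idealMod (f.ker ^ n)))).presheaf.stalk y) :=
    { toFun := fun z => γ₀ (inv z)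
      map_add' := fun a b => by
        rw [← map_add γ₀]
        exact congrArg γ₀ (hΦ (by rw [map_add, hinv, hinv, hinv]; rfl))
      map_smul' := fun t z => by
        obtain ⟨w', hw', hd⟩ := hmul t (inv z)
        refine Eq.trans (congrArg γ₀ (hΦ ?_)) hd
        rw [hinv, hw', hinv]
        rfl }
  have hS' : ∀ s : S, IsUnit (algebraMap (A ⊗[R] R') (Module.End (A ⊗[R] R') (((Scheme.Modules.pullback u).obj
      ((Scheme.Modules.pullback f).obj (ClSub.idealMod (f.ker ^ n)))).presheaf.stalk y)) s) := fun s => by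
    rw [Module.End.isUnit_iff]
    have hu : IsUnit (qT s) := hqu s
    obtain ⟨un, hun⟩ := hu
    refine Function.bijective_iff_has_inverse.2 ⟨fun m => (↑un⁻¹ : K) • m, fun m => ?_, fun m => ?_⟩
    · show (↑un⁻¹ : K) • qT s • m = m
      rw [smul_smul, ← hun, Units.inv_mul, one_smul]
    · show qT s • (↑un⁻¹ : K) • m = m
      rw [smul_smul, ← hun, Units.mul_inv, one_smul]
  let L := IsLocalizedModule.lift S (Algebra.idealMap A' JT) γ hS'
  have hJ' : LinearMap.range (idealStalk (f'.ker ^ n) x') = JT.map (algebraMap (A ⊗[R] R') A') := by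
    rw [range_idealStalk_comap v (isComap_pow v hker n) x' (x := x) rfl, hrg]
    refine le_antisymm (Ideal.map_le_iff_le_comap.2 fun a ha => ?_) (Ideal.map_le_iff_le_comap.2 fun t ht => ?_)
    · have h1 : stalkTo v x' (x := x) rfl a = algebraMap (A ⊗[R] R') A' (a ⊗ₜ 1) := by
        rw [hv, htl, map_one, mul_one]
      rw [Ideal.mem_comap, h1]
      exact Ideal.mem_map_of_mem _ ⟨1 ⊗ₜ ⟨a, ha⟩, by simp [Φ]⟩
    · obtain ⟨w, rfl⟩ := ht
      rw [Ideal.mem_comap]
      induction w using TensorProduct.induction_on with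
      | zero => rw [map_zero, map_zero]; exact zero_mem _
      | add a b ha hb => rw [map_add, map_add]; exact add_mem ha hb
      | tmul r m =>
        have h1 : algebraMap (A ⊗[R] R') A' (Φ (r ⊗ₜ m)) =
            algebraMap R' A' r * stalkTo v x' (x := x) rfl (m : A) := by
          show algebraMap (A ⊗[R] R') A' ((m : A) ⊗ₜ r) = _
          rw [htl, hv, mul_comm]
        rw [h1]
        exact Ideal.mul_mem_left _ _ (Ideal.mem_map_of_mem _ m.2)
  let e' : (ClSub.idealMod (f'.ker ^ n)).presheaf.stalk x' ≃ₗ[A'] ↥(JT.map (algebraMap (A ⊗[R] R') A')) :=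
    (LinearEquiv.ofInjective _ (idealStalk_injective (f'.ker ^ n) x')).trans (LinearEquiv.ofEq _ _ hJ')
  let β := L.toAddMonoidHom.comp e'.toLinearMap.toAddMonoidHom
  have hL : ∀ (r : A') (z : ↥(JT.map (algebraMap (A ⊗[R] R') A'))),
      L (r • z) = stalkTo f' y (x := x') rfl r • L z := by
    intro r z
    obtain ⟨⟨t, s⟩, hts⟩ := IsLocalization.surj S r
    have hu : IsUnit (qT s) := hqu s
    refine hu.smul_left_cancel.1 ?_
    have h1 : (s : A ⊗[R] R') • (r • z) = t • z := by
      rw [← algebraMap_smul A' (s : A ⊗[R] R') (r • z), smul_smul, mul_comm, hts, algebraMap_smul]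
    calc qT s • L (r • z) = L ((s : A ⊗[R] R') • (r • z)) := (L.map_smul _ _).symm
      _ = qT t • L z := by rw [h1]; exact L.map_smul t z
      _ = qT s • stalkTo f' y (x := x') rfl r • L z := by
        rw [smul_smul]
        refine congrArg (· • L z) ?_
        show stalkTo f' y (x := x') rfl _ = stalkTo f' y (x := x') rfl _ * _
        rw [← map_mul, mul_comm, hts]
  obtain ⟨Θ, hΘ⟩ := exists_lift_pullTo f' (ClSub.idealMod (f'.ker ^ n)) y (x := x') rfl β fun r m => by
    show L (e' (r • m)) = _
    rw [LinearEquiv.map_smul, hL]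
    rfl
  refine Function.LeftInverse.injective (g := Θ) fun w => ?_
  have hw : w ∈ Submodule.span K (Set.range (G f u n y h')) := by
    rw [span_G]; trivial
  induction hw using Submodule.span_induction with
  | mem w hw =>
    obtain ⟨m, rfl⟩ := hw
    have hmem : (e m : A) ⊗ₜ[R] (1 : R') ∈ JT := ⟨1 ⊗ₜ e m, by simp [Φ]⟩
    have h1 : stalkTo v x' (x := x) rfl (e m : A) = algebraMap (A ⊗[R] R') A' ((e m : A) ⊗ₜ 1) := by
      rw [hv, htl, map_one, mul_one]
    let z := Algebra.idealMap A' JT ⟨_, hmem⟩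
    have hm' : idealStalk (f'.ker ^ n) x' (e'.symm z) = stalkTo v x' (x := x) rfl (idealStalk (f.ker ^ n) x m) := by
      have h2 : (e' (e'.symm z) : A') = algebraMap (A ⊗[R] R') A' ((e m : A) ⊗ₜ 1) := by
        rw [LinearEquiv.apply_symm_apply]
        rfl
      exact h2.trans h1.symm
    rw [stalk_φ φ hker hφ y rfl h' m (e'.symm z) hm', hΘ]
    show L (e' (e'.symm z)) = _
    rw [LinearEquiv.apply_symm_apply]
    refine (IsLocalizedModule.lift_apply S (Algebra.idealMap A' JT) γ hS' ⟨_, hmem⟩).trans ?_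
    show γ₀ (inv ⟨_, hmem⟩) = _
    rw [show inv ⟨_, hmem⟩ = (1 : R') ⊗ₜ e m from hΦ (by rw [hinv]; simp [Φ])]
    show κ 1 • Gm (e m) = _
    simp [Gm]
  | zero => simp
  | add a b _ _ ha hb => rw [map_add, map_add, ha, hb]
  | smul r a _ ha => rw [map_smul, map_smul, ha]

end Groth.Agent.H17.GrBase
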