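import Groth.Agent.H17.GrBase.Stalk
import Groth.Agent.H17.KoszTwist.Stalk
import Mathlib

/-!
# The base change map between graded pieces of ideals is epi, and iso for flat base change
-/

set_option autoImplicit false
set_option linter.style.haveILetI false
universe u

open CategoryTheory CategoryTheory.Limits AlgebraicGeometry TopologicalSpace Opposite TensorProduct

noncomputable section

namespace Groth.Agent.H17.GrBase

open Groth.Agent.H06Mod Groth.Agent.H29Omega Groth.Agent.H17.PrinStalk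

attribute [local instance] Groth.Agent.H06Mod.stalkAlgebra

variable {Y X Y' X' : Scheme.{u}}

theorem span_pullTo (p : X' ⟶ X) (M : X.Modules) (y : X') {x : X} (h : p y = x) :
    Submodule.span (X'.presheaf.stalk y) (Set.range (pullTo p M y h)) = ⊤ := by
  subst h
  rw [eq_top_iff]
  intro w _
  obtain ⟨t, rfl⟩ := (H06Mod.pullStalkEquiv p M y).surjective w
  induction t using TensorProduct.induction_on with
  | zero => rw [map_zero]; exact zero_mem _
  | add a b ha hb => rw [map_add]; exact add_mem (ha trivial) (hb trivial)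
  | tmul r m =>
    show H06Mod.pullStalkLin p M y (r ⊗ₜ m) ∈ _
    rw [H06Mod.pullStalkLin_tmul]
    refine Submodule.smul_mem _ _ (Submodule.subset_span ⟨m, ?_⟩)
    simp only [pullTo, TopCat.Presheaf.stalkSpecializes_refl, Category.id_comp]

theorem exists_lift_pullTo (p : X' ⟶ X) (M : X.Modules) (y : X') {x : X} (h : p y = x)
    {N : Type u} [AddCommGroup N] [Module (X'.presheaf.stalk y) N] (β : M.presheaf.stalk x →+ N)
    (hβ : ∀ r m, β (r • m) = stalkTo p y h r • β m) :
    ∃ Θ : ((Scheme.Modules.pullback p).obj M).presheaf.stalk y →ₗ[X'.presheaf.stalk y] N,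
      ∀ m, Θ (pullTo p M y h m) = β m := by
  subst h
  letI : Module (X.presheaf.stalk (p.base y)) N := Module.compHom N (p.stalkMap y).hom
  haveI : IsScalarTower (X.presheaf.stalk (p.base y)) (X'.presheaf.stalk y) N :=
    .of_algebraMap_smul fun _ _ => rfl
  have hst : ∀ r, stalkTo p y rfl r = (p.stalkMap y).hom r := fun r => by
    simp [stalkTo, TopCat.Presheaf.stalkSpecializes_refl]
  let β' : M.presheaf.stalk (p.base y) →ₗ[X.presheaf.stalk (p.base y)] N :=
    { toFun := β
      map_add' := map_add β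
      map_smul' := fun r m => (hβ r m).trans (congrArg (· • β m) (hst r)) }
  refine ⟨(β'.liftBaseChange (X'.presheaf.stalk y)).comp (H06Mod.pullStalkEquiv p M y).symm.toLinearMap,
    fun m => ?_⟩
  have h1 : (H06Mod.pullStalkEquiv p M y).symm (pullTo p M y rfl m) = (1 : X'.presheaf.stalk y) ⊗ₜ m := by
    rw [LinearEquiv.symm_apply_eq]
    show _ = H06Mod.pullStalkLin p M y (1 ⊗ₜ m)
    rw [H06Mod.pullStalkLin_tmul, one_smul]
    simp only [pullTo, TopCat.Presheaf.stalkSpecializes_refl, Category.id_comp]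
  show β'.liftBaseChange _ ((H06Mod.pullStalkEquiv p M y).symm (pullTo p M y rfl m)) = _
  rw [h1, LinearMap.liftBaseChange_tmul, one_smul]
  rfl

variable (f : Y ⟶ X) (v : X' ⟶ X) (u : Y' ⟶ Y) (f' : Y' ⟶ X') (n : ℕ)

/-- The two-fold pullback on stalks. -/
abbrev G (y : Y') {x : X} (h : f (u y) = x) (m : (ClSub.idealMod (f.ker ^ n)).presheaf.stalk x) :
    ((Scheme.Modules.pullback u).obj ((Scheme.Modules.pullback f).obj (ClSub.idealMod (f.ker ^ n)))).presheaf.stalk y :=
  pullTo u ((Scheme.Modules.pullback f).obj (ClSub.idealMod (f.ker ^ n))) y rfl (pullTo f (ClSub.idealMod (f.ker ^ n)) (u y) h m)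

theorem G_smul (y : Y') {x : X} (h : f (u y) = x) (r : X.presheaf.stalk x)
    (m : (ClSub.idealMod (f.ker ^ n)).presheaf.stalk x) :
    G f u n y h (r • m) = stalkTo u y rfl (stalkTo f (u y) h r) • G f u n y h m := by
  rw [G, pullTo_smul]
  exact pullTo_smul u ((Scheme.Modules.pullback f).obj (ClSub.idealMod (f.ker ^ n))) y rfl _ _

theorem span_G (y : Y') {x : X} (h : f (u y) = x) :
    Submodule.span (Y'.presheaf.stalk y) (Set.range (G f u n y h)) = ⊤ := by
  rw [eq_top_iff, ← span_pullTo u ((Scheme.Modules.pullback f).obj (ClSub.idealMod (f.ker ^ n))) y rfl, Submodule.span_le]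
  rintro _ ⟨w, rfl⟩
  have hw : w ∈ Submodule.span (Y.presheaf.stalk (u y))
      (Set.range (pullTo f (ClSub.idealMod (f.ker ^ n)) (u y) h)) := by
    rw [span_pullTo]; trivial
  induction hw using Submodule.span_induction with
  | mem w hw => obtain ⟨m, rfl⟩ := hw; exact Submodule.subset_span ⟨m, rfl⟩
  | zero => rw [map_zero]; exact zero_mem _
  | add a b _ _ ha hb => rw [map_add]; exact add_mem ha hb
  | smul r a _ ha =>
    rw [SetLike.mem_coe, pullTo_smul]
    exact Submodule.smul_mem _ _ ha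

variable {f v u f' n}
  (φ : (Scheme.Modules.pullback u).obj (PrinPart.grMod f n) ⟶ PrinPart.grMod f' n)

/-- The map on generators. -/
theorem stalk_φ (hker : f'.ker = f.ker.comap v) (hφ : PrinPart.IsGrMap f' f v u n φ) (y : Y') {x : X}
    (h : v (f' y) = x) (h' : f (u y) = x) (m : (ClSub.idealMod (f.ker ^ n)).presheaf.stalk x)
    (m' : (ClSub.idealMod (f'.ker ^ n)).presheaf.stalk (f' y))
    (hm : idealStalk (f'.ker ^ n) (f' y) m' = stalkTo v (f' y) h (idealStalk (f.ker ^ n) x m)) :
    stalkLin (M := (Scheme.Modules.pullback u).obj ((Scheme.Modules.pullback f).obj (ClSub.idealMod (f.ker ^ n))))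
      (N := (Scheme.Modules.pullback f').obj (ClSub.idealMod (f'.ker ^ n))) φ y (G f u n y h' m) =
        pullTo f' (ClSub.idealMod (f'.ker ^ n)) y rfl m' := by
  obtain ⟨U, hU, s, rfl⟩ := (ClSub.idealMod (f.ker ^ n)).presheaf.exists_germ_eq m
  have hJ := isComap_pow v hker n
  obtain ⟨s', hs'⟩ := exists_idealSect_of_germ (f'.ker ^ n) (v ⁻¹ᵁ U)
    (v.app U (OmegaSh.idealSect (f.ker ^ n) U s)) (fun p hp => by
      rw [range_idealStalk_comap v hJ p (x := v p) rfl, ← stalkTo_germ v p rfl U hp, ← idealStalk_germ]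
      exact Ideal.mem_map_of_mem _ ⟨_, rfl⟩)
  have hy' : f' y ∈ v ⁻¹ᵁ U := show v (f' y) ∈ U from h ▸ hU
  have hm' : m' = (ClSub.idealMod (f'.ker ^ n)).presheaf.germ (v ⁻¹ᵁ U) (f' y) hy' s' := by
    refine idealStalk_injective _ _ ?_
    rw [hm, idealStalk_germ, idealStalk_germ, hs', stalkTo_germ]
  have hy : y ∈ u ⁻¹ᵁ (f ⁻¹ᵁ U) := show f (u y) ∈ U from h' ▸ hU
  have hy2 : y ∈ f' ⁻¹ᵁ (v ⁻¹ᵁ U) := hy'
  subst hm'
  rw [G, pullTo_germ, pullTo_germ]
  rw [stalkLin_germ]
  have key := hφ.2 U s s' hs' (u ⁻¹ᵁ (f ⁻¹ᵁ U) ⊓ f' ⁻¹ᵁ (v ⁻¹ᵁ U)) inf_le_left inf_le_right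
  have key' := congrArg ((PrinPart.grMod f' n).presheaf.germ (u ⁻¹ᵁ (f ⁻¹ᵁ U) ⊓ f' ⁻¹ᵁ (v ⁻¹ᵁ U)) y ⟨hy, hy2⟩) key
  rw [TopCat.Presheaf.germ_res_apply, TopCat.Presheaf.germ_res_apply] at key'
  rw [pullTo_germ]
  exact key'

theorem surjective_stalk (hker : f'.ker = f.ker.comap v) (hφ : PrinPart.IsGrMap f' f v u n φ) (y : Y') :
    Function.Surjective (stalkLin (M := (Scheme.Modules.pullback u).obj ((Scheme.Modules.pullback f).obj (ClSub.idealMod (f.ker ^ n))))
      (N := (Scheme.Modules.pullback f').obj (ClSub.idealMod (f'.ker ^ n))) φ y) := by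
  have h' : f (u y) = v (f' y) := by rw [← Scheme.Hom.comp_apply, hφ.1, Scheme.Hom.comp_apply]
  rw [← LinearMap.range_eq_top, eq_top_iff, ← span_pullTo f' (ClSub.idealMod (f'.ker ^ n)) y rfl,
    Submodule.span_le]
  rintro _ ⟨m', rfl⟩
  have hm : idealStalk (f'.ker ^ n) (f' y) m' ∈
      Ideal.map (stalkTo v (f' y) rfl) (LinearMap.range (idealStalk (f.ker ^ n) (v (f' y)))) :=
    (range_idealStalk_comap v (isComap_pow v hker n) (f' y) rfl).le ⟨m', rfl⟩
  rw [Ideal.map] at hm
  suffices ∀ z, (hz : z ∈ Ideal.span (⇑(stalkTo v (f' y) rfl) ''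
      (LinearMap.range (idealStalk (f.ker ^ n) (v (f' y))) : Set _))) → ∀ m', idealStalk (f'.ker ^ n) (f' y) m' = z →
      pullTo f' (ClSub.idealMod (f'.ker ^ n)) y rfl m' ∈ LinearMap.range (stalkLin (M := (Scheme.Modules.pullback u).obj ((Scheme.Modules.pullback f).obj (ClSub.idealMod (f.ker ^ n)))) (N := (Scheme.Modules.pullback f').obj (ClSub.idealMod (f'.ker ^ n))) φ y) from this _ hm m' rfl
  intro z hz
  induction hz using Submodule.span_induction with
  | mem z hz =>
    obtain ⟨_, ⟨m, rfl⟩, rfl⟩ := hz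
    intro m' hm'
    exact ⟨G f u n y h' m, stalk_φ φ hker hφ y rfl h' m m' hm'⟩
  | zero =>
    intro m' hm'
    rw [idealStalk_injective _ _ (hm'.trans (map_zero _).symm), map_zero]
    exact zero_mem _
  | add a b ha hb iha ihb =>
    intro m' hm'
    have : ∀ c ∈ Ideal.span (⇑(stalkTo v (f' y) rfl) ''
        (LinearMap.range (idealStalk (f.ker ^ n) (v (f' y))) : Set _)), ∃ k, idealStalk (f'.ker ^ n) (f' y) k = c :=
      fun c hc => (range_idealStalk_comap v (isComap_pow v hker n) (f' y) rfl).ge hc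
    obtain ⟨a', rfl⟩ := this a ha
    obtain ⟨b', rfl⟩ := this b hb
    rw [idealStalk_injective _ _ (hm'.trans (map_add _ _ _).symm), map_add]
    exact add_mem (iha a' rfl) (ihb b' rfl)
  | smul r a ha iha =>
    intro m' hm'
    obtain ⟨a', rfl⟩ := (range_idealStalk_comap v (isComap_pow v hker n) (f' y) rfl).ge ha
    rw [idealStalk_injective _ _ (hm'.trans ((idealStalk _ _).map_smul r a').symm), pullTo_smul]
    exact Submodule.smul_mem _ _ (iha a' rfl)

theorem epi_φ (hker : f'.ker = f.ker.comap v) (hφ : PrinPart.IsGrMap f' f v u n φ) : Epi φ :=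
  epi_of_surjective_stalkLin _ (surjective_stalk φ hker hφ)

theorem injective_stalk [Flat v] (hker : f'.ker = f.ker.comap v) (hφ : PrinPart.IsGrMap f' f v u n φ) (y : Y') :
    Function.Injective (stalkLin (M := (Scheme.Modules.pullback u).obj ((Scheme.Modules.pullback f).obj (ClSub.idealMod (f.ker ^ n))))
      (N := (Scheme.Modules.pullback f').obj (ClSub.idealMod (f'.ker ^ n))) φ y) := by
  have h' : f (u y) = v (f' y) := by rw [← Scheme.Hom.comp_apply, hφ.1, Scheme.Hom.comp_apply]
  let A := X.presheaf.stalk (v.base (f' y))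
  let A' := X'.presheaf.stalk (f' y)
  let M := (ClSub.idealMod (f.ker ^ n)).presheaf.stalk (v.base (f' y))
  haveI : Module.Flat A A' := Flat.stalkMap v (f' y)
  have hsT : ∀ a : A, stalkTo v (f' y) rfl a = algebraMap A A' a := fun a => by
    simp [stalkTo, TopCat.Presheaf.stalkSpecializes_refl]
    rfl
  let q := stalkTo f' y (rfl : f' y = f' y)
  have hcomp : ∀ a : A, stalkTo u y rfl (stalkTo f (u y) h' a) = q (algebraMap A A' a) := fun a => by
    rw [← hsT, stalkTo_comp u f y rfl h', stalkTo_comp f' v y rfl rfl]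
    exact stalkTo_congr hφ.1 y _ a
  letI : Module A' (((Scheme.Modules.pullback u).obj ((Scheme.Modules.pullback f).obj (ClSub.idealMod (f.ker ^ n)))).presheaf.stalk y) :=
    Module.compHom _ q
  letI : Module A (((Scheme.Modules.pullback u).obj ((Scheme.Modules.pullback f).obj (ClSub.idealMod (f.ker ^ n)))).presheaf.stalk y) :=
    Module.compHom _ (algebraMap A A')
  haveI : IsScalarTower A A' (((Scheme.Modules.pullback u).obj ((Scheme.Modules.pullback f).obj (ClSub.idealMod (f.ker ^ n)))).presheaf.stalk y) :=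
    .of_algebraMap_smul fun _ _ => rfl
  let g : M →ₗ[A] ((Scheme.Modules.pullback u).obj ((Scheme.Modules.pullback f).obj (ClSub.idealMod (f.ker ^ n)))).presheaf.stalk y :=
    { toFun := fun m => G f u n y h' m
      map_add' := fun a b => by rw [G, map_add]; exact map_add _ _ _
      map_smul' := fun a m => by
        rw [G_smul, hcomp]
        rfl }
  let γ := g.liftBaseChange A'
  let ι : M →ₗ[A] A := idealStalk (f.ker ^ n) (v.base (f' y))
  have hι : Function.Injective ι := idealStalk_injective _ _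
  let Ψ : A' ⊗[A] M →ₗ[A'] A' := ((Algebra.linearMap A A') ∘ₗ ι).liftBaseChange A'
  have hΨ : Function.Injective Ψ := by
    have : (Ψ.restrictScalars A) = (TensorProduct.rid A A').toLinearMap ∘ₗ ι.lTensor A' := by
      refine TensorProduct.ext' fun a m => ?_
      show Ψ (a ⊗ₜ m) = TensorProduct.rid A A' (a ⊗ₜ ι m)
      rw [TensorProduct.rid_tmul]
      simp only [Ψ, LinearMap.liftBaseChange_tmul, LinearMap.comp_apply, Algebra.linearMap_apply, Algebra.smul_def]
      exact mul_comm _ _
    intro a b hab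
    refine (Module.Flat.lTensor_preserves_injective_linearMap ι hι) ((TensorProduct.rid A A').injective ?_)
    exact (LinearMap.congr_fun this a).symm.trans (hab.trans (LinearMap.congr_fun this b))
  have hrange : LinearMap.range Ψ = LinearMap.range (idealStalk (f'.ker ^ n) (f' y)) := by
    rw [range_idealStalk_comap v (isComap_pow v hker n) (f' y) (x := v.base (f' y)) rfl]
    refine le_antisymm ?_ (Ideal.map_le_iff_le_comap.2 ?_)
    · rintro _ ⟨t, rfl⟩
      induction t using TensorProduct.induction_on with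
      | zero => rw [map_zero]; exact zero_mem _
      | add a b ha hb => rw [map_add]; exact add_mem ha hb
      | tmul a m =>
        simp only [Ψ, LinearMap.liftBaseChange_tmul, LinearMap.comp_apply, Algebra.linearMap_apply]
        refine Ideal.mul_mem_left _ a ?_
        rw [← hsT]
        exact Ideal.mem_map_of_mem _ ⟨m, rfl⟩
    · rintro _ ⟨m, rfl⟩
      refine ⟨1 ⊗ₜ m, ?_⟩
      simp only [Ψ, LinearMap.liftBaseChange_tmul, LinearMap.comp_apply, Algebra.linearMap_apply, one_smul]
      exact (hsT _).symm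
  let E : A' ⊗[A] M ≃ₗ[A'] (ClSub.idealMod (f'.ker ^ n)).presheaf.stalk (f' y) :=
    ((LinearEquiv.ofInjective Ψ hΨ).trans (LinearEquiv.ofEq _ _ hrange)).trans
      (LinearEquiv.ofInjective _ (idealStalk_injective (f'.ker ^ n) (f' y))).symm
  have hE : ∀ t, idealStalk (f'.ker ^ n) (f' y) (E t) = Ψ t := fun t => by
    simp [E]
  obtain ⟨Θ, hΘ⟩ := exists_lift_pullTo f' (ClSub.idealMod (f'.ker ^ n)) y (x := f' y) rfl
    (γ.comp E.symm.toLinearMap).toAddMonoidHom (fun r m => (γ.comp E.symm.toLinearMap).map_smul r m)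
  have hid : ∀ w, Θ (stalkLin (M := (Scheme.Modules.pullback u).obj ((Scheme.Modules.pullback f).obj (ClSub.idealMod (f.ker ^ n)))) (N := (Scheme.Modules.pullback f').obj (ClSub.idealMod (f'.ker ^ n))) φ y w) = w := by
    intro w
    have hw : w ∈ Submodule.span (Y'.presheaf.stalk y) (Set.range (G f u n y h')) := by
      rw [span_G]; trivial
    induction hw using Submodule.span_induction with
    | mem w hw =>
      obtain ⟨m, rfl⟩ := hw
      rw [stalk_φ φ hker hφ y rfl h' m (E (1 ⊗ₜ m)) (by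
        rw [hE, hsT]
        simp only [Ψ, LinearMap.liftBaseChange_tmul, LinearMap.comp_apply, Algebra.linearMap_apply, one_smul]
        rfl), hΘ]
      show γ (E.symm (E (1 ⊗ₜ m))) = _
      rw [LinearEquiv.symm_apply_apply]
      exact (LinearMap.liftBaseChange_tmul _ _ _ _).trans (one_smul A' (g m))
    | zero => simp
    | add a b _ _ ha hb => rw [map_add, map_add, ha, hb]
    | smul r a _ ha => rw [map_smul, map_smul, ha]
  exact Function.LeftInverse.injective hid

theorem isIso_φ [Flat v] (hker : f'.ker = f.ker.comap v) (hφ : PrinPart.IsGrMap f' f v u n φ) : IsIso φ := by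
  haveI := epi_φ φ hker hφ
  haveI := KoszTwist.mono_of_stalk_injective φ (injective_stalk φ hker hφ)
  exact isIso_of_mono_of_epi φ

theorem ker_eq_comap [IsClosedImmersion f] (hsq : IsPullback u f' f v) : f'.ker = f.ker.comap v := by
  rw [← Scheme.IdealSheafData.ker_fst_of_isClosedImmersion f v, ← hsq.flip.isoPullback_hom_fst]
  exact Scheme.Hom.ker_comp_of_isIso _ _

end Groth.Agent.H17.GrBase
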